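import Cfsg.Agent.UnitOrders.Elements
import Cfsg.Agent.GLBlocks.HalfSinger
import Cfsg.Agent.Zsigmondy.Basic
import Cfsg.Agent.PrimeGraphBC.Eigen

/-!
# Elements of order `q ^ m + (-1) ^ m` in `PSU (2m, q)`
-/

set_option autoImplicit false

namespace CfsgLib.UnitHalf

open Matrix Polynomial CfsgLib.UnitOrders
open CfsgLib.PrimeGraphBC (rootsK)

/-- `q ^ m + (-1) ^ m`. -/
def halfN (q m : ℕ) : ℕ := if Even m then q ^ m + 1 else q ^ m - 1

theorem geomU_mul (k q : ℕ) :
    geomU k q * (q + 1) = if Even k then q ^ k - 1 else q ^ k + 1 := by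
  rw [geomU]
  split_ifs with h
  · exact Nat.div_mul_cancel (succ_dvd_pow_sub_one q h)
  · exact Nat.div_mul_cancel (succ_dvd_pow_add_one q (Nat.not_even_iff_odd.1 h))

theorem geomU_two_mul (m q : ℕ) : geomU (2 * m) q = halfN q m * geomU m q := by
  apply Nat.eq_of_mul_eq_mul_right (Nat.succ_pos q)
  rw [Nat.succ_eq_add_one, geomU_mul, if_pos (even_two_mul m), mul_assoc, geomU_mul, halfN, mul_comm 2 m, pow_mul]
  split_ifs with h
  · rw [← Nat.sq_sub_sq, one_pow]
  · rw [mul_comm (q ^ m - 1), ← Nat.sq_sub_sq, one_pow]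

theorem geomU_eq_sum (k q : ℕ) (hq : 1 ≤ q) :
    (geomU k q : ℤ) = ∑ i ∈ Finset.range k, (-(q : ℤ)) ^ i ∨
      (geomU k q : ℤ) = -∑ i ∈ Finset.range k, (-(q : ℤ)) ^ i := by
  have h0 : ((q : ℤ) + 1) ≠ 0 := by omega
  have hs := geom_sum_mul (-(q : ℤ)) k
  have hg := congrArg (fun t : ℕ => (t : ℤ)) (geomU_mul k q)
  rcases Nat.even_or_odd k with h | h
  · right
    simp only [if_pos h] at hg
    push_cast [Nat.one_le_pow k q hq] at hg
    rw [h.neg_pow] at hs
    exact mul_right_cancel₀ h0 (by linear_combination hg - hs)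
  · left
    simp only [if_neg (Nat.not_even_iff_odd.2 h)] at hg
    push_cast at hg
    rw [h.neg_pow] at hs
    exact mul_right_cancel₀ h0 (by linear_combination hg + hs)

theorem dvd_geomU_iff {d k q : ℕ} (hq : 1 ≤ q) (hd : d ∣ q + 1) : d ∣ geomU k q ↔ d ∣ k := by
  have hq' : ((-(q : ℤ) : ℤ) : ZMod d) = 1 := by
    have : ((q + 1 : ℕ) : ZMod d) = 0 := (ZMod.natCast_eq_zero_iff _ _).2 hd
    push_cast at this
    push_cast
    linear_combination -this
  have hsum : ((∑ i ∈ Finset.range k, (-(q : ℤ)) ^ i : ℤ) : ZMod d) = (k : ZMod d) := by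
    rw [Int.cast_sum]
    simp only [Int.cast_pow, hq', one_pow, Finset.sum_const, Finset.card_range, nsmul_one]
  rw [← ZMod.natCast_eq_zero_iff, ← ZMod.natCast_eq_zero_iff k, ← hsum, ← Int.cast_natCast (geomU k q)]
  rcases geomU_eq_sum k q hq with h | h
  · rw [h]
  · rw [h, Int.cast_neg, neg_eq_zero]

theorem halfN_dvd_singerM_iff {q m : ℕ} (hq : 2 ≤ q) (hm : 1 ≤ m) :
    halfN q m ∣ singerM (2 * m) q ↔ padicValNat 2 (q + 1) < padicValNat 2 (2 * m) := by
  rw [← GLBlocks.dvd_half_iff (Nat.succ_ne_zero q) (by omega)]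
  have hd : Nat.gcd (geomU (2 * m) q) (q + 1) = Nat.gcd (2 * m) (q + 1) := Nat.dvd_antisymm
    (Nat.dvd_gcd ((dvd_geomU_iff (by omega) (Nat.gcd_dvd_right _ _)).1 (Nat.gcd_dvd_left _ _)) (Nat.gcd_dvd_right _ _))
    (Nat.dvd_gcd ((dvd_geomU_iff (by omega) (Nat.gcd_dvd_right _ _)).2 (Nat.gcd_dvd_left _ _)) (Nat.gcd_dvd_right _ _))
  have hN : 0 < halfN q m := by
    have := Nat.one_lt_pow (n := m) (by omega) (show 1 < q by omega)
    rw [halfN]
    split_ifs <;> omega
  rw [singerM, Nat.dvd_div_iff_mul_dvd (Nat.gcd_dvd_left _ _), hd, geomU_two_mul, mul_comm _ (halfN q m),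
    Nat.mul_dvd_mul_iff_left hN]
  exact dvd_geomU_iff (by omega) (Nat.gcd_dvd_right _ _)

/-- A prime divisor of `halfN` for which `-q` has order `2m`. -/
theorem exists_prime_order {q m : ℕ} (hq : 3 ≤ q) (hm : 2 ≤ m) :
    ∃ r : ℕ, r.Prime ∧ r ∣ halfN q m ∧ orderOf (-(q : ZMod r)) = 2 * m := by
  have neg_ne : ∀ r : ℕ, r.Prime → r ≠ 2 → (1 : ZMod r) ≠ -1 := fun r hr h2 => by
    haveI : Fact (2 < r) := ⟨by have := hr.two_le; omega⟩
    exact fun h => ZMod.neg_one_ne_one h.symm
  have ne_two : ∀ r k : ℕ, r.Prime → 1 < k → orderOf (q : ZMod r) = k → r ≠ 2 := by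
    rintro r k hr hk ho rfl
    have h01 : ∀ z : ZMod 2, z = 0 ∨ z = 1 := by decide
    rcases h01 (q : ZMod 2) with h | h
    · rw [h, orderOf_zero] at ho
      omega
    · rw [h, orderOf_one] at ho
      omega
  rcases Nat.even_or_odd m with he | ho
  · obtain ⟨r, hr, hord⟩ := Zsigmondy.exists_ppd (a := q) (n := 2 * m) (by omega) (by omega)
      (fun h => by omega) (fun h => by omega)
    haveI : Fact r.Prime := ⟨hr⟩
    have hr2 := ne_two r _ hr (by omega) hord
    have hqm : (q : ZMod r) ^ m = -1 := by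
      rcases sq_eq_one_iff.1 (show ((q : ZMod r) ^ m) ^ 2 = 1 by
        rw [← pow_mul, mul_comm, ← hord, pow_orderOf_eq_one]) with h | h
      · have := Nat.le_of_dvd (by omega) (hord ▸ orderOf_dvd_of_pow_eq_one h : 2 * m ∣ m)
        omega
      · exact h
    refine ⟨r, hr, ?_, ?_⟩
    · rw [halfN, if_pos he, ← ZMod.natCast_eq_zero_iff]
      push_cast
      rw [hqm, neg_add_cancel]
    · rw [orderOf_eq_iff (by omega)]
      refine ⟨by rw [(even_two_mul m).neg_pow, ← hord, pow_orderOf_eq_one], fun j hj hj0 h => ?_⟩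
      have h2 : (q : ZMod r) ^ (2 * j) = 1 := by
        rw [← (even_two_mul j).neg_pow, mul_comm, pow_mul, h, one_pow]
      obtain ⟨c, hc⟩ := (Nat.mul_dvd_mul_iff_left two_pos).1 (hord ▸ orderOf_dvd_of_pow_eq_one h2)
      obtain rfl : c = 1 := by
        rcases c with _ | _ | c
        · omega
        · rfl
        · exfalso
          have : m * 2 ≤ m * (c + 1 + 1) := Nat.mul_le_mul_left _ (by omega)
          omega
      rw [mul_one] at hc
      subst hc
      rw [he.neg_pow, hqm] at h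
      exact neg_ne r hr hr2 h.symm
  · obtain ⟨r, hr, hord⟩ := Zsigmondy.exists_ppd (a := q) (n := m) (by omega) (by omega)
      (fun h => by omega) (fun h => by obtain ⟨a, ha⟩ := ho; omega)
    haveI : Fact r.Prime := ⟨hr⟩
    have hr2 := ne_two r _ hr (by omega) hord
    have hqm : (q : ZMod r) ^ m = 1 := hord ▸ pow_orderOf_eq_one _
    refine ⟨r, hr, ?_, ?_⟩
    · rw [halfN, if_neg (Nat.not_even_iff_odd.2 ho), ← ZMod.natCast_eq_zero_iff,
        Nat.cast_sub (Nat.one_le_pow _ _ (by omega)), Nat.cast_pow, hqm, Nat.cast_one, sub_self]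
    · rw [orderOf_eq_iff (by omega)]
      refine ⟨by rw [(even_two_mul m).neg_pow, mul_comm, pow_mul, hqm, one_pow], fun j hj hj0 h => ?_⟩
      have h2 : (q : ZMod r) ^ (2 * j) = 1 := by
        rw [← (even_two_mul j).neg_pow, mul_comm, pow_mul, h, one_pow]
      obtain ⟨c, hc⟩ := (Nat.coprime_two_right.2 ho).dvd_of_dvd_mul_left (hord ▸ orderOf_dvd_of_pow_eq_one h2)
      obtain rfl : c = 1 := by
        rcases c with _ | _ | c
        · omega
        · rfl
        · exfalso
          have : m * 2 ≤ m * (c + 1 + 1) := Nat.mul_le_mul_left _ (by omega)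
          omega
      rw [mul_one] at hc
      subst hc
      rw [ho.neg_pow, hqm] at h
      exact neg_ne r hr hr2 h.symm

variable {F : Type*} [Field F] [Fintype F]

local notation "K" => AlgebraicClosure F

/-- The eigenvalues of a unitary matrix are permuted by `x ↦ x ^ (-q)`. -/
theorem root_neg_pow {p a q n : ℕ} [Fact p.Prime] [CharP F p] (hqa : q = p ^ a) {τ : F →+* F}
    (hτ : ∀ x, τ x = x ^ q) {G : Matrix (Fin n) (Fin n) F} (h : uAdj τ G * G = 1) {lam : K}
    (hl : lam ∈ rootsK K G) : lam ^ (-(q : ℤ)) ∈ rootsK K G := by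
  classical
  haveI : CharP K p := charP_of_injective_algebraMap (algebraMap F K).injective p
  set π := iterateFrobenius K p a with hπ
  have hπx : ∀ y : K, π y = y ^ q := fun y => by rw [hπ, iterateFrobenius_def, hqa]
  have hG : IsUnit G := ⟨⟨G, uAdj τ G, mul_eq_one_comm.1 h, h⟩, rfl⟩
  have hGK : IsUnit (G.map (algebraMap F K)) := hG.map (algebraMap F K).mapMatrix
  have hinv : (G.map (algebraMap F K))⁻¹ = (uAdj τ G).map (algebraMap F K) :=
    Matrix.inv_eq_left_inv (by rw [← Matrix.map_mul, h, Matrix.map_one _ (map_zero _) (map_one _)])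
  have hcp : (G.map (algebraMap F K))⁻¹.charpoly = ((G.map (algebraMap F K)).charpoly).map π := by
    rw [hinv, uAdj, charpoly_map, Matrix.charpoly_transpose, charpoly_map, charpoly_map, Polynomial.map_map,
      Polynomial.map_map]
    congr 1
    ext y
    simp [hπx, hτ]
  have hmem : π lam ∈ (G.map (algebraMap F K))⁻¹.charpoly.roots := by
    rw [hcp, mem_roots ((Polynomial.map_ne_zero_iff π.injective).2 (charpoly_monic _).ne_zero)]
    refine IsRoot.map ?_
    rw [charpoly_map]
    exact isRoot_of_mem_roots hl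
  rw [Roots57.roots_charpoly_inv _ hGK] at hmem
  obtain ⟨y, hy, hye⟩ := Multiset.mem_map.1 hmem
  rw [_root_.zpow_neg, zpow_natCast, ← hπx, ← hye, inv_inv, rootsK, ← charpoly_map]
  exact hy

theorem exists_order_dvd {p r N : ℕ} [Fact p.Prime] [CharP F p] [Fact r.Prime] {n : ℕ} [Nonempty (Fin n)]
    {G : Matrix (Fin n) (Fin n) F} {E : ℕ} (hE : G ^ E = 1) (hpE : ¬ p ∣ E) (hrN : r ∣ N)
    (hdvd : ∀ L, G ^ L = 1 → N ∣ L) : ∃ lam ∈ rootsK K G, r ∣ orderOf lam := by
  by_contra hcon
  push Not at hcon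
  have hE0 : E ≠ 0 := fun h => hpE (h ▸ dvd_zero p)
  obtain ⟨k, L, hL, hkL⟩ := Nat.exists_eq_pow_mul_and_not_dvd hE0 r (Fact.out : r.Prime).ne_one
  have : G ^ L = 1 := PrimeGraphBC.pow_eq_one_of_roots K hE hpE fun lam hl => by
    have h1 : orderOf lam ∣ r ^ k * L := hkL ▸ orderOf_dvd_of_pow_eq_one (PrimeGraphBC.root_pow K hE hl)
    exact orderOf_dvd_iff_pow_eq_one.1
      ((((Fact.out : r.Prime).coprime_iff_not_dvd.2 (hcon lam hl)).symm.pow_right k).dvd_of_dvd_mul_left h1)
  exact hL (hrN.trans (hdvd L this))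

/-- A projective order `halfN q m` forces `halfN q m ∣ singerM (2m) q`. -/
theorem dvd_singerM {p a q m : ℕ} [Fact p.Prime] [CharP F p] (hqa : q = p ^ a) (ha : 1 ≤ a) (hq : 3 ≤ q) (hm : 2 ≤ m)
    {τ : F →+* F} (hτ : ∀ x, τ x = x ^ q) (hF : Fintype.card F = q ^ 2) (g : Cfsg.SU (2 * m) F q)
    (ho : orderOf (QuotientGroup.mk g : Cfsg.PSU (2 * m) F q) = halfN q m) :
    halfN q m ∣ singerM (2 * m) q := by
  classical
  haveI : Nonempty (Fin (2 * m)) := ⟨⟨0, by omega⟩⟩
  haveI : CharP K p := charP_of_injective_algebraMap (algebraMap F K).injective p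
  set G := suMat g with hG
  have hadj : uAdj τ G * G = 1 := uAdj_mul_self hτ g
  obtain ⟨c, hc⟩ := (UnitOrders.mk_pow_eq_one_iff hτ hF (by omega) g _).1 (pow_orderOf_eq_one _)
  rw [ho, ← hG] at hc
  have hscal : ∀ L (d : F), G ^ L = d • 1 → halfN q m ∣ L := fun L d hd =>
    ho ▸ orderOf_dvd_of_pow_eq_one (mk_pow_eq_one_of_scalar (c := d) hd)
  have hc1 : c ^ (q + 1) = 1 := by
    have h2 := uAdj_mul_self hτ (g ^ halfN q m)
    change uAdj τ (suMat (g ^ halfN q m)) * suMat (g ^ halfN q m) = 1 at h2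
    rw [suMat_pow, hc, uAdj_smul_one, smul_mul_smul_comm, one_mul] at h2
    have h3 := congrFun (congrFun h2 ⟨0, by omega⟩) ⟨0, by omega⟩
    simpa [hτ, ← pow_succ] using h3
  set E := halfN q m * (q + 1) with hE
  have hGE : G ^ E = 1 := by rw [hE, pow_mul, hc, _root_.smul_pow, hc1, one_pow, one_smul]
  have hp := (Fact.out : p.Prime)
  have hpq : p ∣ q := hqa ▸ dvd_pow_self p (by omega)
  have hpE : ¬ p ∣ E := by
    have h1 : 1 ≤ q ^ m := Nat.one_le_pow _ _ (by omega)
    have h2 : p ∣ q ^ m := dvd_pow hpq (by omega)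
    intro h
    rcases hp.dvd_mul.1 h with h | h
    · rw [halfN] at h
      split_ifs at h
      · exact hp.not_dvd_one ((Nat.dvd_add_right h2).1 h)
      · have h3 := Nat.dvd_sub h2 h
        rw [show q ^ m - (q ^ m - 1) = 1 by omega] at h3
        exact hp.not_dvd_one h3
    · exact hp.not_dvd_one ((Nat.dvd_add_right hpq).1 h)
  obtain ⟨r, hr, hrN, hrord⟩ := exists_prime_order hq hm
  haveI : Fact r.Prime := ⟨hr⟩
  obtain ⟨lam, hlam, hrl⟩ := exists_order_dvd (F := F) (G := G) hGE hpE hrN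
    (fun L hL => hscal L 1 (by rw [hL, one_smul]))
  have hl0 : lam ≠ 0 := fun h => by
    have := PrimeGraphBC.root_pow K hGE hlam
    rw [h, zero_pow (show E ≠ 0 from fun h0 => hpE (by rw [h0]; exact dvd_zero p))] at this
    exact zero_ne_one this
  have hit : ∀ i : ℕ, lam ^ ((-(q : ℤ)) ^ i) ∈ rootsK K G := by
    intro i
    induction i with
    | zero => simpa using hlam
    | succ i ih =>
      rw [pow_succ, _root_.zpow_mul]
      exact root_neg_pow hqa hτ hadj ih
  set f : ℕ → K := fun i => lam ^ ((-(q : ℤ)) ^ i) with hf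
  have hinj : Set.InjOn f ↑(Finset.range (2 * m)) := by
    intro i hi j hj h
    simp only [Finset.coe_range, Set.mem_Iio] at hi hj
    have h1 := (PrimeGraphBC.zpow_eq_iff hl0 rfl _ _).1 h
    have h2 := congrArg (ZMod.castHom hrl (ZMod r)) h1
    simp only [Int.cast_pow, Int.cast_neg, Int.cast_natCast, map_pow, map_neg, map_natCast] at h2
    exact pow_injOn_Iio_orderOf (x := -(q : ZMod r)) (by simpa [hrord] using hi) (by simpa [hrord] using hj) h2
  have hR : ((Finset.range (2 * m)).image f).val = rootsK K G := by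
    refine Multiset.eq_of_le_of_card_le ((Multiset.le_iff_subset (Finset.nodup _)).2 fun x hx => ?_) ?_
    · obtain ⟨i, -, rfl⟩ := Finset.mem_image.1 (show x ∈ (Finset.range (2 * m)).image f from hx)
      exact hit i
    · rw [PrimeGraphBC.card_rootsK, Fintype.card_fin]
      show 2 * m ≤ ((Finset.range (2 * m)).image f).card
      rw [Finset.card_image_of_injOn hinj, Finset.card_range]
  have hprod : lam ^ (∑ i ∈ Finset.range (2 * m), (-(q : ℤ)) ^ i) = 1 := by
    have h1 : (G.map (algebraMap F K)).det = 1 := by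
      rw [show G.map (algebraMap F K) = (algebraMap F K).mapMatrix G from rfl, ← RingHom.map_det, hG]
      show algebraMap F K ((g : Matrix.SpecialLinearGroup (Fin (2 * m)) F) : Matrix (Fin (2 * m)) (Fin (2 * m)) F).det = 1
      rw [Matrix.SpecialLinearGroup.det_coe, map_one]
    rw [Matrix.det_eq_prod_roots_charpoly_of_splits (IsAlgClosed.splits _), charpoly_map] at h1
    change (rootsK K G).prod = 1 at h1
    rw [← hR] at h1
    rw [Finset.prod_val, Finset.prod_image hinj] at h1
    have : ∀ k : ℕ, ∏ i ∈ Finset.range k, f i = lam ^ (∑ i ∈ Finset.range k, (-(q : ℤ)) ^ i) := by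
      intro k
      induction k with
      | zero => simp
      | succ k ih => rw [Finset.prod_range_succ, Finset.sum_range_succ, ih, zpow_add₀ hl0]
    simp only [id] at h1
    exact (this _).symm.trans h1
  have hgU : lam ^ geomU (2 * m) q = 1 := by
    rcases geomU_eq_sum (2 * m) q (by omega) with h | h
    · rw [← zpow_natCast, h, hprod]
    · rw [← zpow_natCast, h, _root_.zpow_neg, hprod, inv_one]
  obtain ⟨e, he, he1⟩ := exists_scalar_of_pow_geomU hF hgU
  set S := singerM (2 * m) q with hS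
  have hroot : ∀ x ∈ (G.map (algebraMap F K)).charpoly.roots, x ^ S = algebraMap F K e := by
    intro x hx
    rw [charpoly_map] at hx
    change x ∈ rootsK K G at hx
    rw [← hR] at hx
    obtain ⟨i, -, rfl⟩ := Finset.mem_image.1 (show x ∈ (Finset.range (2 * m)).image f from hx)
    rw [hf, ← zpow_natCast, ← _root_.zpow_mul, mul_comm, _root_.zpow_mul, zpow_natCast, he]
    have hfix : (algebraMap F K e) ^ (-(q : ℤ)) = algebraMap F K e := by
      rw [_root_.zpow_neg, zpow_natCast, inv_eq_of_mul_eq_one_left]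
      rw [← pow_succ', ← map_pow, he1, map_one]
    clear * - hfix
    induction i with
    | zero => simp
    | succ i ih => rw [pow_succ, _root_.zpow_mul, ih, hfix]
  have hcount : ∀ x, (G.map (algebraMap F K)).charpoly.rootMultiplicity x ≤ 1 := by
    intro x
    rw [← count_roots, charpoly_map]
    change (rootsK K G).count x ≤ 1
    rw [← hR]
    exact Multiset.nodup_iff_count_le_one.1 (Finset.nodup _) x
  have hmain := Roots57.pow_sub_scalar_pow_eq_zero (G.map (algebraMap F K)) hroot hcount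
  rw [pow_one, sub_eq_zero, show G.map (algebraMap F K) = (algebraMap F K).mapMatrix G from rfl, ← map_pow] at hmain
  refine hscal S e (Matrix.map_injective (algebraMap F K).injective ?_)
  rw [RingHom.mapMatrix_apply] at hmain
  beta_reduce
  rw [hmain]
  ext i j
  simp [Matrix.one_apply, apply_ite (algebraMap F K)]

theorem iff_orderOf {q m : ℕ} (hF : Fintype.card F = q ^ 2) (hodd : Odd q) (hm : 2 ≤ m) :
    (∃ g : Cfsg.PSU (2 * m) F q, orderOf g = halfN q m) ↔
      padicValNat 2 (q + 1) < padicValNat 2 (2 * m) := by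
  classical
  obtain ⟨p, hchar⟩ := CharP.exists F
  obtain ⟨b, hp, hcard⟩ := FiniteField.card F p
  haveI := Fact.mk hp
  have hq2 : p ^ (b : ℕ) = q ^ 2 := hcard ▸ hF
  obtain ⟨a, -, hqa⟩ := (Nat.dvd_prime_pow hp).1 (show q ∣ p ^ (b : ℕ) from hq2 ▸ dvd_pow_self q two_ne_zero)
  have ha : 1 ≤ a := Nat.pos_of_ne_zero fun h0 => by
    have hb : p ^ (b : ℕ) = 1 := by rw [hq2, hqa, h0, pow_zero, one_pow]
    exact absurd hb (Nat.one_lt_pow b.pos.ne' hp.one_lt).ne'
  have hq3 : 3 ≤ q := by
    have := Nat.one_lt_pow (show a ≠ 0 by omega) hp.one_lt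
    obtain ⟨k, hk⟩ := hodd
    omega
  let τ : F →+* F := iterateFrobenius F p a
  have hτ : ∀ x, τ x = x ^ q := fun x => by rw [hqa]; exact iterateFrobenius_def ..
  have hττ : ∀ x, τ (τ x) = x := fun x => by
    rw [hτ, hτ, ← pow_mul, ← sq, ← hF, FiniteField.pow_card]
  have hne : τ ≠ RingHom.id F := by
    intro h
    have hall : ∀ x : F, (X ^ q - X : F[X]).IsRoot x := fun x => by
      simp [← hτ, h]
    have hne0 : (X ^ q - X : F[X]) ≠ 0 := FiniteField.X_pow_card_sub_X_ne_zero F (by omega)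
    have h1 : (Finset.univ : Finset F).card ≤ (X ^ q - X : F[X]).natDegree :=
      card_le_degree_of_subset_roots fun x _ => (mem_roots hne0).2 (hall x)
    rw [FiniteField.X_pow_card_sub_X_natDegree_eq F (by omega), Finset.card_univ, hF] at h1
    nlinarith
  rw [← halfN_dvd_singerM_iff (by omega) (by omega)]
  constructor
  · rintro ⟨x, hx⟩
    obtain ⟨g, rfl⟩ := QuotientGroup.mk_surjective x
    exact dvd_singerM hqa ha hq3 hm hτ hF g hx
  · intro h
    obtain ⟨g, hg⟩ := exists_singer_even (p := p) (a := a) hτ hττ hne hF hqa (by omega) (by omega) (even_two_mul m)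
    exact ⟨(QuotientGroup.mk g : Cfsg.PSU (2 * m) F q) ^ (orderOf (QuotientGroup.mk g : Cfsg.PSU (2 * m) F q) / halfN q m),
      orderOf_pow_orderOf_div (orderOf_pos _).ne' (h.trans hg)⟩

end CfsgLib.UnitHalf
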